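import Mathlib.RingTheory.RegularLocalRing.Defs
import Mathlib.RingTheory.KrullDimension.Regular
import Mathlib.RingTheory.Regular.RegularSequence
import Mathlib.RingTheory.Nakayama
import Mathlib.RingTheory.Ideal.MinimalPrime.Noetherian

/-!
# Regular local rings are domains and have a regular sequence of length `dim`
-/

universe u

open IsLocalRing RingTheory.Sequence Pointwise

namespace GrothLib.CMFree

/-- Dividing by an element outside `m²` lowers the number of generators of `m`. -/
theorem spanFinrank_map_lt {R : Type u} [CommRing R] [IsLocalRing R] [IsNoetherianRing R]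
    {x : R} (hx : x ∈ maximalIdeal R) (hx2 : x ∉ maximalIdeal R ^ 2) :
    ((maximalIdeal R).map (Ideal.Quotient.mk (Ideal.span {x}))).spanFinrank + 1 ≤
      (maximalIdeal R).spanFinrank := by
  classical
  have hfg : (maximalIdeal R).FG := IsNoetherian.noetherian _
  have hfin := Submodule.FG.finite_generators hfg
  set s := hfin.toFinset with hs
  have hspan : Ideal.span (s : Set R) = maximalIdeal R := by
    rw [hs, Set.Finite.coe_toFinset]; exact Submodule.span_generators _
  have hcard : s.card = (maximalIdeal R).spanFinrank := by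
    rw [hs, ← Set.ncard_eq_toFinset_card _ hfin]; exact Submodule.FG.generators_ncard hfg
  obtain ⟨a, -, ha⟩ := Submodule.mem_span_finset.1 (show x ∈ Submodule.span R (s : Set R) by
    rw [show Submodule.span R (s : Set R) = maximalIdeal R from hspan]; exact hx)
  obtain ⟨i, hi, hu⟩ : ∃ i ∈ s, IsUnit (a i) := by
    by_contra hc
    push Not at hc
    apply hx2
    rw [← ha, sq]
    refine Submodule.sum_mem _ fun i hi => Ideal.mul_mem_mul ?_ ?_
    · exact hc i hi
    · rw [← hspan]; exact Ideal.subset_span hi
  set π := Ideal.Quotient.mk (Ideal.span {x})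
  have hle : (maximalIdeal R).map π ≤ Ideal.span ((s.erase i).image π : Set (R ⧸ Ideal.span {x})) := by
    rw [← hspan, Ideal.map_span, Ideal.span_le]
    rintro _ ⟨j, hj, rfl⟩
    by_cases hji : j = i
    · subst hji
      have h0 : π x = 0 := Ideal.Quotient.eq_zero_iff_mem.2 (Ideal.subset_span rfl)
      have hz : π (a j • j + ∑ k ∈ s.erase j, a k • k) = 0 := by
        rw [Finset.add_sum_erase s (fun k => a k • k) hj, ha]; exact h0
      clear h0
      rename _ => h0
      rw [map_add, map_sum, smul_eq_mul, map_mul, add_eq_zero_iff_eq_neg] at h0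
      obtain ⟨v, hv⟩ := (hu.map π).exists_left_inv
      have h1 : π j = v * -∑ k ∈ s.erase j, π (a k • k) := by
        rw [← h0, ← mul_assoc, hv, one_mul]
      rw [SetLike.mem_coe, h1]
      refine Ideal.mul_mem_left _ _ (Submodule.neg_mem _ (Submodule.sum_mem _ fun k hk => ?_))
      rw [smul_eq_mul, map_mul]
      exact Ideal.mul_mem_left _ _ (Ideal.subset_span (Finset.mem_image_of_mem π hk))
    · exact Ideal.subset_span (Finset.mem_image_of_mem π (Finset.mem_erase.2 ⟨hji, hj⟩))
  have hle' : Ideal.span ((s.erase i).image π : Set (R ⧸ Ideal.span {x})) ≤ (maximalIdeal R).map π := by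
    rw [Ideal.span_le, Finset.coe_image]
    rintro _ ⟨j, hj, rfl⟩
    refine Ideal.mem_map_of_mem π ?_
    rw [← hspan]
    exact Ideal.subset_span (Finset.mem_of_mem_erase hj)
  rw [le_antisymm hle hle']
  have h := Submodule.spanFinrank_span_le_ncard_of_finite (R := R ⧸ Ideal.span {x})
    ((s.erase i).image π).finite_toSet
  rw [Set.ncard_coe_finset] at h
  have h' := h.trans Finset.card_image_le
  rw [Finset.card_erase_of_mem hi] at h'
  have : 0 < s.card := Finset.card_pos.2 ⟨i, hi⟩
  have h'' : (Ideal.span (((s.erase i).image π : Finset _) : Set (R ⧸ Ideal.span {x}))).spanFinrank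
      ≤ s.card - 1 := h'
  omega

theorem regularLocal_aux : ∀ (d : ℕ) (R : Type u) [CommRing R] [IsRegularLocalRing R],
    (maximalIdeal R).spanFinrank = d → IsDomain R ∧ ∃ rs : List R,
      IsWeaklyRegular R rs ∧ (∀ r ∈ rs, r ∈ maximalIdeal R) ∧ rs.length = d := by
  intro d
  induction d with
  | zero =>
    intro R _ _ h
    have hbot : maximalIdeal R = ⊥ :=
      (Submodule.spanFinrank_eq_zero_iff_eq_bot (IsNoetherian.noetherian _)).1 h
    have hfield : IsField R := by
      rw [isField_iff_maximalIdeal_eq]; exact hbot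
    exact ⟨hfield.isDomain, [], IsWeaklyRegular.nil R R, by simp, rfl⟩
  | succ d ih =>
    intro R _ _ h
    classical
    have hdim : ringKrullDim R = ((d + 1 : ℕ) : WithBot ℕ∞) := by
      rw [← IsRegularLocalRing.spanFinrank_maximalIdeal (R := R), h]
    have hfinmin := minimalPrimes.finite_of_isNoetherianRing (R := R)
    have hne : maximalIdeal R ≠ ⊥ := by
      intro e
      rw [e] at h
      simp at h
    have hm2 : ¬ maximalIdeal R ≤ maximalIdeal R ^ 2 := by
      intro hle
      refine hne (Submodule.eq_bot_of_le_smul_of_le_jacobson_bot (maximalIdeal R) _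
        (IsNoetherian.noetherian _) ?_ ?_)
      · rwa [smul_eq_mul, ← sq]
      · exact maximalIdeal_le_jacobson _
    have hnmin : ∀ P ∈ minimalPrimes R, ¬ maximalIdeal R ≤ P := by
      intro P hP hle
      have hpr : P.IsPrime := hP.1.1
      have : P = maximalIdeal R := le_antisymm (le_maximalIdeal hpr.ne_top) hle
      subst this
      have h0 : (maximalIdeal R).height = 0 := Ideal.height_eq_zero_iff.2 hP
      have := IsLocalRing.maximalIdeal_height_eq_ringKrullDim (R := R)
      rw [h0, hdim] at this
      exact absurd this (by exact_mod_cast (Nat.succ_ne_zero d).symm)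
    obtain ⟨x, hx, hxgood⟩ : ∃ x ∈ maximalIdeal R,
        x ∉ maximalIdeal R ^ 2 ∧ ∀ P ∈ minimalPrimes R, x ∉ P := by
      by_contra hc
      push Not at hc
      have hsub : (maximalIdeal R : Set R) ⊆
          ⋃ i ∈ ((insert (maximalIdeal R ^ 2) hfinmin.toFinset : Finset (Ideal R)) : Set (Ideal R)), (i : Set R) := by
        intro x hx
        simp only [Set.mem_iUnion, Finset.mem_coe, Finset.mem_insert, Set.Finite.mem_toFinset]
        by_cases hxm : x ∈ maximalIdeal R ^ 2
        · exact ⟨_, Or.inl rfl, hxm⟩
        · obtain ⟨P, hP, hPx⟩ := hc x hx hxm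
          exact ⟨P, Or.inr hP, hPx⟩
      obtain ⟨i, hi, hle⟩ := (Ideal.subset_union_prime (f := fun i : Ideal R => i)
        (maximalIdeal R ^ 2) (maximalIdeal R ^ 2) (fun i hi h1 _ => by
          simp only [Finset.mem_insert, Set.Finite.mem_toFinset] at hi
          exact (hi.resolve_left h1).1.1)).1 hsub
      simp only [Finset.mem_insert, Set.Finite.mem_toFinset] at hi
      rcases hi with rfl | hi
      · exact hm2 hle
      · exact hnmin i hi hle
    obtain ⟨hx2, hxmin⟩ := hxgood
    let S := R ⧸ Ideal.span {x}
    have hspanle : Ideal.span {x} ≤ maximalIdeal R := by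
      rwa [Ideal.span_le, Set.singleton_subset_iff]
    have : Nontrivial S := Ideal.Quotient.nontrivial_iff.2
      (fun e => (maximalIdeal.isMaximal R).ne_top (top_le_iff.1 (e ▸ hspanle)))
    have : IsLocalRing S := .of_surjective' (Ideal.Quotient.mk _) Ideal.Quotient.mk_surjective
    have hm : maximalIdeal S = (maximalIdeal R).map (Ideal.Quotient.mk (Ideal.span {x})) := by
      have : IsLocalHom (Ideal.Quotient.mk (Ideal.span {x})) :=
        IsLocalHom.of_surjective _ Ideal.Quotient.mk_surjective
      rw [← IsLocalRing.maximalIdeal_comap (Ideal.Quotient.mk (Ideal.span {x})),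
        Ideal.map_comap_of_surjective _ Ideal.Quotient.mk_surjective]
    have hle : (maximalIdeal S).spanFinrank + 1 ≤ d + 1 := by
      rw [hm, ← h]; exact spanFinrank_map_lt hx hx2
    have hle2 : ((d + 1 : ℕ) : WithBot ℕ∞) ≤ ringKrullDim S + 1 := by
      have h1 := ringKrullDim_le_ringKrullDim_quotSMulTop_succ hx
      rw [hdim] at h1
      have e : ringKrullDim (QuotSMulTop x R) = ringKrullDim S := by
        have : Ideal.span {x} = x • (⊤ : Ideal R) := by simp [← Submodule.ideal_span_singleton_smul]
        exact (ringKrullDim_eq_of_ringEquiv (Ideal.quotientEquivAlgOfEq R this).toRingEquiv).symm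
      rwa [e] at h1
    have hge := ringKrullDim_le_spanFinrank_maximalIdeal S
    have hsd : (maximalIdeal S).spanFinrank = d := by
      have := hle2.trans (add_le_add hge le_rfl)
      norm_cast at this
      omega
    have hreg : IsRegularLocalRing S := by
      refine IsRegularLocalRing.of_spanFinrank_maximalIdeal_le S ?_
      rw [hsd]
      by_contra hlt
      rw [not_le] at hlt
      obtain ⟨m, hm'⟩ : ∃ m : ℕ, ringKrullDim S = m := by
        rw [hsd] at hge
        generalize ringKrullDim S = D at hge hle2 hlt
        induction D with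
        | bot => simp at hle2
        | coe a => exact ⟨a.toNat, by
            have : a ≠ ⊤ := fun e => by subst e; exact absurd hlt (not_lt.2 (WithBot.coe_le_coe.2 le_top))
            exact congrArg WithBot.some (ENat.coe_toNat this).symm⟩
      rw [hm'] at hlt hle2
      norm_cast at hlt hle2
      omega
    obtain ⟨hdom, rs, hrs, hrsm, hlen⟩ := ih S hsd
    have hxprime : (Ideal.span {x}).IsPrime := (Ideal.Quotient.isDomain_iff_prime _).1 hdom
    obtain ⟨P, hP, hPx⟩ := Ideal.exists_minimalPrimes_le (I := ⊥) (J := Ideal.span {x}) bot_le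
    have hPbot : P = ⊥ := by
      have hPr : P.IsPrime := hP.1.1
      refine Submodule.eq_bot_of_le_smul_of_le_jacobson_bot (maximalIdeal R) _
        (IsNoetherian.noetherian _) ?_ (maximalIdeal_le_jacobson _)
      intro a ha
      obtain ⟨b, rfl⟩ := Ideal.mem_span_singleton'.1 (hPx ha)
      have hb : b ∈ P := (hPr.mem_or_mem ha).resolve_right (hxmin P hP)
      rw [smul_eq_mul, mul_comm b x]
      exact Ideal.mul_mem_mul hx hb
    have hRdom : IsDomain R := by
      have : (⊥ : Ideal R).IsPrime := hPbot ▸ hP.1.1
      exact IsDomain.of_bot_isPrime R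
    have hx0 : x ≠ 0 := fun e => hx2 (e ▸ Submodule.zero_mem _)
    choose g hg using Ideal.Quotient.mk_surjective (I := Ideal.span {x})
    refine ⟨hRdom, x :: rs.map g, ?_, ?_, by simp [hlen]⟩
    · rw [isWeaklyRegular_cons_iff]
      refine ⟨(isRegular_iff_ne_zero.2 hx0).left.isSMulRegular, ?_⟩
      have e : S ≃ₗ[R] QuotSMulTop x R := Submodule.quotEquivOfEq _ _ (by
        simp [← Submodule.ideal_span_singleton_smul])
      rw [← e.isWeaklyRegular_congr, ← isWeaklyRegular_map_algebraMap_iff S S (rs.map g),
        List.map_map]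
      have : (algebraMap R S) ∘ g = id := funext hg
      simpa [this] using hrs
    · intro r hr
      rcases List.mem_cons.1 hr with rfl | hr
      · exact hx
      · obtain ⟨s, hs, rfl⟩ := List.mem_map.1 hr
        have := hrsm s hs
        rw [hm] at this
        obtain ⟨b, hb, hbs⟩ := (Ideal.mem_map_iff_of_surjective _ Ideal.Quotient.mk_surjective).1 this
        have : g s - b ∈ Ideal.span {x} := by
          rw [← Ideal.Quotient.eq, hg, hbs]
        simpa using (maximalIdeal R).add_mem (hspanle this) hb

theorem isDomain_of_isRegularLocalRing (R : Type u) [CommRing R] [IsRegularLocalRing R] :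
    IsDomain R :=
  (regularLocal_aux _ R rfl).1

theorem exists_weaklyRegular_of_isRegularLocalRing (R : Type u) [CommRing R] [IsRegularLocalRing R] :
    ∃ rs : List R, IsWeaklyRegular R rs ∧ (∀ r ∈ rs, r ∈ maximalIdeal R) ∧
      (rs.length : WithBot ℕ∞) = ringKrullDim R := by
  obtain ⟨-, rs, h1, h2, h3⟩ := regularLocal_aux _ R rfl
  exact ⟨rs, h1, h2, by rw [h3, IsRegularLocalRing.spanFinrank_maximalIdeal]⟩

end GrothLib.CMFree
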