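import Groth.Agent.Lib.CMFree.Regular
import Groth.Prelude.Def_CAlg
import Mathlib.RingTheory.RegularLocalRing.Polynomial
import Mathlib.RingTheory.Regular.Flat
import Mathlib.RingTheory.Flat.Localization
import Mathlib.RingTheory.Ideal.GoingUp

/-!
# Finite flat algebras over regular rings are Cohen–Macaulay
-/

universe u

open IsLocalRing RingTheory.Sequence

namespace GrothLib.CMFree

theorem depth_le_ringKrullDim (R : Type u) [CommRing R] [IsLocalRing R] [IsNoetherianRing R] :
    ((LocCoh.depth R R : ℕ∞) : WithBot ℕ∞) ≤ ringKrullDim R := by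
  have hne : maximalIdeal R • (⊤ : Submodule R R) ≠ ⊤ := by
    rw [smul_eq_mul, Ideal.mul_top]
    exact (maximalIdeal.isMaximal R).ne_top
  unfold LocCoh.depth LocCoh.idealDepth
  rw [if_neg hne]
  obtain ⟨D, hD⟩ : ∃ D : ℕ∞, ringKrullDim R = D :=
    WithBot.ne_bot_iff_exists.1 (ringKrullDim_ne_bot (R := R)) |>.imp fun _ h => h.symm
  rw [hD]
  refine WithBot.coe_le_coe.2 (iSup₂_le fun rs hrs => ?_)
  have hreg : IsRegular R rs :=
    (IsLocalRing.isRegular_iff_isWeaklyRegular_of_subset_maximalIdeal hrs.2).2 hrs.1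
  have h := ringKrullDim_add_length_eq_ringKrullDim_of_isRegular rs hreg
  have hnt : Nontrivial (R ⧸ Ideal.ofList rs) := Ideal.Quotient.nontrivial_iff.2 (fun e => by
    apply (maximalIdeal.isMaximal R).ne_top
    rw [eq_top_iff, ← e, Ideal.ofList, Ideal.span_le]
    exact fun r hr => hrs.2 r hr)
  have h0 : (0 : WithBot ℕ∞) ≤ ringKrullDim (R ⧸ Ideal.ofList rs) := ringKrullDim_nonneg_of_nontrivial
  have : (rs.length : WithBot ℕ∞) ≤ (D : WithBot ℕ∞) := by
    rw [← hD, ← h]
    exact le_add_of_nonneg_left h0
  exact_mod_cast this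

theorem isCohenMacaulayLocalRing_of_weaklyRegular (R : Type u) [CommRing R] [IsLocalRing R]
    [IsNoetherianRing R] (rs : List R) (h : IsWeaklyRegular R rs)
    (hm : ∀ r ∈ rs, r ∈ maximalIdeal R) (hl : ringKrullDim R ≤ (rs.length : WithBot ℕ∞)) :
    LocCoh.IsCohenMacaulayLocalRing R := by
  refine ⟨?_⟩
  rw [Module.supportDim_self_eq_ringKrullDim]
  refine le_antisymm (hl.trans ?_) (depth_le_ringKrullDim R)
  have hne : maximalIdeal R • (⊤ : Submodule R R) ≠ ⊤ := by
    rw [smul_eq_mul, Ideal.mul_top]
    exact (maximalIdeal.isMaximal R).ne_top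
  unfold LocCoh.depth LocCoh.idealDepth
  rw [if_neg hne]
  have : (rs.length : ℕ∞) ≤ ⨆ (l : List R) (_ : IsWeaklyRegular R l ∧ ∀ r ∈ l, r ∈ maximalIdeal R),
      (l.length : ℕ∞) := le_iSup₂ (f := fun (l : List R) _ => (l.length : ℕ∞)) rs ⟨h, hm⟩
  exact_mod_cast this

theorem height_le_height_under {P A : Type u} [CommRing P] [CommRing A] [Algebra P A]
    [Algebra.IsIntegral P A] (p : Ideal A) [p.IsPrime] : p.height ≤ (p.under P).height := by
  have hsm : StrictMono (PrimeSpectrum.comap (algebraMap P A)) := fun I J h => by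
    have := Ideal.IsIntegral.comap_lt_comap (R := P) (I := I.asIdeal) (J := J.asIdeal) h
    exact this
  have := Order.height_le_height_apply_of_strictMono _ hsm ⟨p, inferInstance⟩
  rwa [← PrimeSpectrum.height_eq_orderHeight, ← PrimeSpectrum.height_eq_orderHeight] at this

theorem isCohenMacaulayRing_of_finite_flat (P A : Type u) [CommRing P] [CommRing A] [Algebra P A]
    [IsRegularRing P] [Module.Finite P A] [Module.Flat P A] : LocCoh.IsCohenMacaulayRing A := by
  have : IsNoetherianRing A := IsNoetherianRing.of_finite P A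
  refine ⟨fun p _ => ?_⟩
  let q := p.under P
  have := isRegularRing_iff.1 ‹IsRegularRing P› q
  obtain ⟨rs, h1, h2, h3⟩ := exists_weaklyRegular_of_isRegularLocalRing (Localization.AtPrime q)
  have : p.LiesOver q := ⟨rfl⟩
  let _ : Algebra (Localization.AtPrime q) (Localization.AtPrime p) :=
    Localization.AtPrime.algebraOfLiesOver q p
  have : Module.Flat (Localization.AtPrime q) (Localization.AtPrime p) := inferInstance
  refine isCohenMacaulayLocalRing_of_weaklyRegular (Localization.AtPrime p)
    (rs.map (algebraMap (Localization.AtPrime q) (Localization.AtPrime p))) h1.of_flat ?_ ?_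
  · intro r hr
    obtain ⟨s, hs, rfl⟩ := List.mem_map.1 hr
    have : IsLocalHom (algebraMap (Localization.AtPrime q) (Localization.AtPrime p)) :=
      Localization.isLocalHom_localRingHom q p (algebraMap P A) rfl
    exact (mem_maximalIdeal _).2 fun hu => (mem_maximalIdeal _).1 (h2 s hs)
      (isUnit_of_map_unit _ _ hu)
  · rw [List.length_map, h3, IsLocalization.AtPrime.ringKrullDim_eq_height p,
      IsLocalization.AtPrime.ringKrullDim_eq_height q]
    exact WithBot.coe_le_coe.2 (height_le_height_under p)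

/-- Finite free algebras over a polynomial ring over a field are Cohen–Macaulay. -/
theorem isCohenMacaulayRing_of_finite_free_mvPolynomial (K : Type u) [Field K] (ι : Type) [Finite ι]
    (A : Type u) [CommRing A] [Algebra (MvPolynomial ι K) A] [Module.Finite (MvPolynomial ι K) A]
    [Module.Free (MvPolynomial ι K) A] : LocCoh.IsCohenMacaulayRing A := by
  have : IsRegularRing K := inferInstance
  exact isCohenMacaulayRing_of_finite_flat (MvPolynomial ι K) A

end GrothLib.CMFree
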