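import Groth.Agent.Lib.CMFree.Regular
import Groth.Agent.Lib.Depth.Reduce
import Mathlib.RingTheory.Ideal.AssociatedPrime.Basic
import Mathlib.RingTheory.Ideal.KrullsHeightTheorem
import Mathlib.RingTheory.KrullDimension.Regular

/-!
# Parameters in regular local rings form regular sequences
-/

universe u

open IsLocalRing RingTheory.Sequence

namespace GrothLib.CMFree

variable {R : Type u} [CommRing R] [IsLocalRing R] [IsNoetherianRing R]

/-- A regular sequence is no longer than the dimension at an associated prime. -/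
theorem length_le_ringKrullDim_quotient (rs : List R) (hmem : ∀ r ∈ rs, r ∈ maximalIdeal R) :
    ∀ (M : Type u) [AddCommGroup M] [Module R M] [Module.Finite R M], IsWeaklyRegular M rs →
      ∀ p ∈ associatedPrimes R M, (rs.length : WithBot ℕ∞) ≤ ringKrullDim (R ⧸ p) := by
  induction rs with
  | nil =>
    intro M _ _ _ _ p hp
    haveI : Nontrivial (R ⧸ p) := Ideal.Quotient.nontrivial_iff.2 hp.isPrime.ne_top
    simpa using ringKrullDim_nonneg_of_nontrivial
  | cons x rs ih =>
    intro M _ _ _ hreg p hp
    rw [isWeaklyRegular_cons_iff] at hreg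
    have hxm : x ∈ maximalIdeal R := hmem x List.mem_cons_self
    obtain ⟨hprime, f, hf⟩ := (isAssociatedPrime_iff_exists_injective_linearMap _ _).1
      ((AssociatedPrimes.mem_iff).1 hp)
    have hxp : x ∉ p := by
      intro hxp
      have h1 : f (Ideal.Quotient.mk p 1) ≠ 0 := fun h =>
        hprime.ne_top (Ideal.eq_top_iff_one p |>.2 (Ideal.Quotient.eq_zero_iff_mem.1 (hf (h.trans (map_zero f).symm))))
      apply h1
      refine hreg.1 ?_
      change x • f (Ideal.Quotient.mk p 1) = x • 0
      rw [smul_zero, ← map_smul, Algebra.smul_def, Ideal.Quotient.algebraMap_eq, ← map_mul, mul_one,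
        Ideal.Quotient.eq_zero_iff_mem.2 hxp, map_zero]
    let H : Submodule R M :=
      { carrier := {z | ∀ a ∈ p, a • z = 0}
        add_mem' := fun {a b} ha hb r hr => by rw [smul_add, ha r hr, hb r hr, add_zero]
        zero_mem' := fun r _ => smul_zero r
        smul_mem' := fun c z hz r hr => by rw [smul_comm, hz r hr, smul_zero] }
    obtain ⟨z, hzH, hz⟩ : ∃ z ∈ H, (Submodule.Quotient.mk z : QuotSMulTop x M) ≠ 0 := by
      by_contra hcon
      push Not at hcon
      have hle : H ≤ maximalIdeal R • H := by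
        intro z hz
        have := hcon z hz
        rw [Submodule.Quotient.mk_eq_zero] at this
        obtain ⟨w, -, rfl⟩ := (Submodule.mem_smul_pointwise_iff_exists _ _ _).1 this
        refine Submodule.smul_mem_smul hxm (fun a ha => hreg.1 ?_)
        change x • (a • w) = x • 0
        rw [smul_zero, smul_comm]
        exact hz a ha
      have hbot := Submodule.eq_bot_of_le_smul_of_le_jacobson_bot _ _ (IsNoetherian.noetherian H) hle
        (maximalIdeal_le_jacobson _)
      have h1 : f (Ideal.Quotient.mk p 1) ∈ H := fun a ha => by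
        rw [← map_smul, Algebra.smul_def, Ideal.Quotient.algebraMap_eq, ← map_mul, mul_one,
          Ideal.Quotient.eq_zero_iff_mem.2 ha, map_zero]
      rw [hbot, Submodule.mem_bot] at h1
      exact hprime.ne_top (Ideal.eq_top_iff_one p |>.2
        (Ideal.Quotient.eq_zero_iff_mem.1 (hf (h1.trans (map_zero f).symm))))
    obtain ⟨q, hq, hle⟩ := exists_le_isAssociatedPrime_of_isNoetherianRing R _ hz
    have hpq : p ⊔ Ideal.span {x} ≤ q := by
      refine sup_le (fun a ha => hle ?_) ((Ideal.span_singleton_le_iff_mem q).2 (hle ?_))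
      · rw [Submodule.mem_colon_singleton, ← Submodule.Quotient.mk_smul, hzH a ha, Submodule.Quotient.mk_zero,
          Submodule.mem_bot]
      · rw [Submodule.mem_colon_singleton, ← Submodule.Quotient.mk_smul, Submodule.mem_bot,
          Submodule.Quotient.mk_eq_zero]
        exact Submodule.smul_mem_pointwise_smul z x ⊤ trivial
    have h1 := ih (fun r hr => hmem r (List.mem_cons_of_mem x hr)) (QuotSMulTop x M) hreg.2 q hq
    haveI : IsDomain (R ⧸ p) := (Ideal.Quotient.isDomain_iff_prime p).2 hprime
    have h2 := ringKrullDim_quotient_succ_le_of_nonZeroDivisor (r := Ideal.Quotient.mk p x)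
      (mem_nonZeroDivisors_of_ne_zero fun h => hxp (Ideal.Quotient.eq_zero_iff_mem.1 h))
    let g : (R ⧸ p) ⧸ Ideal.span {Ideal.Quotient.mk p x} →+* R ⧸ q :=
      Ideal.Quotient.lift _ (Ideal.Quotient.factor (le_sup_left.trans hpq)) fun a ha => by
        obtain ⟨c, rfl⟩ := Ideal.mem_span_singleton'.1 ha
        rw [map_mul, Ideal.Quotient.factor_mk,
          Ideal.Quotient.eq_zero_iff_mem.2 (hpq (Ideal.mem_sup_right (Ideal.mem_span_singleton_self x))),
          mul_zero]
    have h3 : ringKrullDim (R ⧸ q) ≤ ringKrullDim ((R ⧸ p) ⧸ Ideal.span {Ideal.Quotient.mk p x}) :=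
      ringKrullDim_le_of_surjective g fun a => by
        obtain ⟨a, rfl⟩ := Ideal.Quotient.mk_surjective a
        exact ⟨Ideal.Quotient.mk _ (Ideal.Quotient.mk p a), rfl⟩
    calc ((x :: rs).length : WithBot ℕ∞) = (rs.length : WithBot ℕ∞) + 1 := by simp
      _ ≤ ringKrullDim ((R ⧸ p) ⧸ Ideal.span {Ideal.Quotient.mk p x}) + 1 := by gcongr; exact h1.trans h3
      _ ≤ ringKrullDim (R ⧸ p) := h2

theorem natCast_le_ringKrullDim_quotient (M : Type u) [AddCommGroup M] [Module R M] [Module.Finite R M]
    (n : ℕ) (hn : (n : ℕ∞) ≤ LocCoh.idealDepth (maximalIdeal R) M) (p : Ideal R) (hp : p ∈ associatedPrimes R M) :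
    (n : WithBot ℕ∞) ≤ ringKrullDim (R ⧸ p) := by
  have hne : maximalIdeal R • (⊤ : Submodule R M) ≠ ⊤ := fun h => by
    have := Submodule.eq_bot_of_le_smul_of_le_jacobson_bot _ _ (Module.Finite.fg_top (R := R) (M := M)) h.ge
      (maximalIdeal_le_jacobson _)
    obtain ⟨-, f, hf⟩ := (isAssociatedPrime_iff_exists_injective_linearMap _ _).1 ((AssociatedPrimes.mem_iff).1 hp)
    haveI : Subsingleton M := subsingleton_of_forall_eq 0 fun z => by
      simpa [this] using (Submodule.mem_top (R := R) (x := z))
    haveI := hf.subsingleton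
    exact hp.isPrime.ne_top (Ideal.Quotient.subsingleton_iff.1 inferInstance)
  obtain ⟨rs, rfl, hmem, hreg⟩ := (GrothLib.Depth.le_idealDepth_iff_exists _ hne n).1 hn
  exact length_le_ringKrullDim_quotient rs hmem M hreg p hp

/-- Elements cutting the dimension down as far as possible are regular when the depth is maximal. -/
theorem isWeaklyRegular_of_dim (rs : List R) (hmem : ∀ r ∈ rs, r ∈ maximalIdeal R) :
    ∀ (J : Ideal R) (n : ℕ), J ≤ maximalIdeal R → (n : ℕ∞) ≤ LocCoh.idealDepth (maximalIdeal R) (R ⧸ J) →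
      (∀ m : ℕ, (m : WithBot ℕ∞) ≤ ringKrullDim (R ⧸ (J ⊔ Ideal.ofList rs)) + rs.length → m ≤ n) →
      IsWeaklyRegular (R ⧸ J) rs := by
  induction rs with
  | nil => intros; exact .nil R _
  | cons x rs ih =>
    intro J n hJm hn hdim
    have hxm : x ∈ maximalIdeal R := hmem x List.mem_cons_self
    let J' := J ⊔ Ideal.span {x}
    have hJ : J' ⊔ Ideal.ofList rs = J ⊔ Ideal.ofList (x :: rs) := by
      rw [Ideal.ofList_cons, sup_assoc]
    -- the dimension of `R/(J + x)`
    have hJ' : ringKrullDim (R ⧸ J') ≤ ringKrullDim (R ⧸ (J ⊔ Ideal.ofList (x :: rs))) + rs.length := by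
      have hle : Ideal.ofList (rs.map (Ideal.Quotient.mk J')) ≤ Ring.jacobson (R ⧸ J') := by
        rw [← Ideal.map_ofList]
        refine Ideal.map_le_iff_le_comap.2 fun a ha => ?_
        have ham : a ∈ maximalIdeal R := by
          refine (?_ : Ideal.ofList rs ≤ maximalIdeal R) ha
          exact Ideal.span_le.2 fun r hr => hmem r (List.mem_cons_of_mem x hr)
        rw [Ideal.mem_comap, Ring.jacobson_eq_sInf_isMaximal]
        refine Submodule.mem_sInf.2 fun P (hP : Ideal.IsMaximal P) => ?_
        have hc : (Ideal.comap (Ideal.Quotient.mk J') P).IsMaximal :=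
          Ideal.comap_isMaximal_of_surjective _ Ideal.Quotient.mk_surjective
        change a ∈ Ideal.comap (Ideal.Quotient.mk J') P
        rw [IsLocalRing.eq_maximalIdeal hc]
        exact ham
      have h := ringKrullDim_le_ringKrullDim_quotient_add_spanFinrank
        (Ideal.ofList (rs.map (Ideal.Quotient.mk J'))) hle
      refine h.trans (add_le_add (le_of_eq ?_) ?_)
      · rw [← Ideal.map_ofList, ← hJ]
        exact ringKrullDim_eq_of_ringEquiv (DoubleQuot.quotQuotEquivQuotSup J' _)
      · have hs : (Ideal.ofList (rs.map (Ideal.Quotient.mk J'))).spanFinrank ≤ rs.length := by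
          classical
          rw [Ideal.ofList, show {r | r ∈ rs.map (Ideal.Quotient.mk J')} =
            ((rs.map (Ideal.Quotient.mk J')).toFinset : Set (R ⧸ J')) by ext; simp]
          exact (Submodule.spanFinrank_span_le_ncard_of_finite (Finset.finite_toSet _)).trans
            ((Set.ncard_coe_finset _).le.trans ((List.toFinset_card_le _).trans (List.length_map ..).le))
        exact_mod_cast hs
    have hreg : IsSMulRegular (R ⧸ J) x := by
      rw [isSMulRegular_iff_right_eq_zero_of_smul]
      intro z hz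
      by_contra hz0
      obtain ⟨p, hp, hle⟩ := exists_le_isAssociatedPrime_of_isNoetherianRing R _ hz0
      have hxp : x ∈ p := hle (Submodule.mem_colon_singleton.2 (Submodule.mem_bot R |>.2 hz))
      have hJp : J ≤ p := fun a ha => by
        obtain ⟨-, f, hf⟩ := (isAssociatedPrime_iff_exists_injective_linearMap _ _).1 hp
        refine Ideal.Quotient.eq_zero_iff_mem.1 (hf ?_)
        have e : f (Ideal.Quotient.mk p a) = a • f (Ideal.Quotient.mk p 1) := by
          rw [← map_smul, Algebra.smul_def, Ideal.Quotient.algebraMap_eq, ← map_mul, mul_one]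
        rw [e, map_zero]
        obtain ⟨w, hw⟩ := Ideal.Quotient.mk_surjective (f (Ideal.Quotient.mk p 1))
        rw [← hw, Algebra.smul_def, Ideal.Quotient.algebraMap_eq, ← map_mul,
          Ideal.Quotient.eq_zero_iff_mem]
        exact J.mul_mem_right w ha
      have h1 := natCast_le_ringKrullDim_quotient (R ⧸ J) n hn p hp
      have h2 : ringKrullDim (R ⧸ p) ≤ ringKrullDim (R ⧸ J') :=
        ringKrullDim_le_of_surjective (Ideal.Quotient.factor (sup_le hJp ((Ideal.span_singleton_le_iff_mem p).2 hxp)))
          (Ideal.Quotient.factor_surjective _)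
      have := hdim (n + 1) (by
        rw [List.length_cons, Nat.cast_succ, Nat.cast_succ, ← add_assoc]
        gcongr
        exact (h1.trans h2).trans hJ')
      omega
    rw [isWeaklyRegular_cons_iff]
    refine ⟨hreg, ?_⟩
    let e : (R ⧸ J') ≃ₗ[R] QuotSMulTop x (R ⧸ J) :=
      (Submodule.quotientQuotientEquivQuotientSup J (Ideal.span {x})).symm.trans
        (Submodule.quotEquivOfEq _ _ (by
          rw [← Submodule.ideal_span_singleton_smul]
          ext z
          obtain ⟨z, rfl⟩ := Submodule.mkQ_surjective J z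
          constructor
          · rintro ⟨a, ha, e⟩
            obtain ⟨c, rfl⟩ := Ideal.mem_span_singleton'.1 ha
            rw [← e, mul_comm, ← smul_eq_mul, map_smul]
            exact Submodule.smul_mem_smul (Ideal.mem_span_singleton_self x) trivial
          · intro hz
            refine Submodule.smul_induction_on hz (fun a ha w _ => ?_) fun a b ha hb => add_mem ha hb
            obtain ⟨w, rfl⟩ := Submodule.mkQ_surjective J w
            exact ⟨a * w, Ideal.mul_mem_right w _ ha, rfl⟩))
    rw [← e.isWeaklyRegular_congr]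
    have hn0 : 0 < n := by
      have hlem : J ⊔ Ideal.ofList (x :: rs) ≤ maximalIdeal R := sup_le hJm (Ideal.span_le.2 hmem)
      haveI : Nontrivial (R ⧸ (J ⊔ Ideal.ofList (x :: rs))) :=
        Ideal.Quotient.nontrivial_iff.2 fun htop => (maximalIdeal.isMaximal R).ne_top (top_le_iff.1 (htop ▸ hlem))
      have := hdim 1 (by
        refine le_trans ?_ (le_add_of_nonneg_left ringKrullDim_nonneg_of_nontrivial)
        exact_mod_cast Nat.succ_pos rs.length)
      omega
    obtain ⟨n, rfl⟩ : ∃ k, n = k + 1 := ⟨n - 1, by omega⟩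
    refine ih (fun r hr => hmem r (List.mem_cons_of_mem x hr)) J' n
      (sup_le hJm ((Ideal.span_singleton_le_iff_mem _).2 hxm)) ?_ fun k hk => ?_
    · have h1 := GrothLib.Depth.idealDepth_quotSMulTop_add_one (maximalIdeal R) (M := R ⧸ J) hxm hreg
      rw [← h1, Nat.cast_succ] at hn
      have hn' := (ENat.add_le_add_iff_right ENat.one_ne_top).1 hn
      have hJ'm : J' ≤ maximalIdeal R := sup_le hJm ((Ideal.span_singleton_le_iff_mem _).2 hxm)
      have hne' : maximalIdeal R • (⊤ : Submodule R (R ⧸ J')) ≠ ⊤ := fun h => by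
        have hbot := Submodule.eq_bot_of_le_smul_of_le_jacobson_bot _ _
          (Module.Finite.fg_top (R := R) (M := R ⧸ J')) h.ge (maximalIdeal_le_jacobson _)
        have h1 : (Ideal.Quotient.mk J' 1) ∈ (⊥ : Submodule R (R ⧸ J')) := hbot ▸ trivial
        exact (maximalIdeal.isMaximal R).ne_top ((Ideal.eq_top_iff_one _).2
          (hJ'm (Ideal.Quotient.eq_zero_iff_mem.1 ((Submodule.mem_bot R).1 h1))))
      have hne : maximalIdeal R • (⊤ : Submodule R (QuotSMulTop x (R ⧸ J))) ≠ ⊤ := fun h => by
        apply hne'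
        have := congrArg (Submodule.map e.symm.toLinearMap) h
        rwa [Submodule.map_smul'', Submodule.map_top, LinearEquiv.range] at this
      obtain ⟨l, rfl, hl, hlr⟩ := (GrothLib.Depth.le_idealDepth_iff_exists _ hne n).1 hn'
      exact (GrothLib.Depth.le_idealDepth_iff_exists _ hne' _).2 ⟨l, rfl, hl, (e.isWeaklyRegular_congr l).2 hlr⟩
    · have := hdim (k + 1) (by
        rw [List.length_cons, Nat.cast_succ, Nat.cast_succ, ← add_assoc, ← hJ]
        gcongr)
      omega

/-- In a regular local ring, elements dropping the dimension by their number form a regular sequence. -/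
theorem isRegular_of_ringKrullDim_quotient (R : Type u) [CommRing R] [IsRegularLocalRing R] (rs : List R)
    (hne : Ideal.ofList rs ≠ ⊤) (hdim : ringKrullDim (R ⧸ Ideal.ofList rs) + rs.length ≤ ringKrullDim R) :
    IsRegular R rs := by
  have hle : Ideal.ofList rs ≤ maximalIdeal R := le_maximalIdeal hne
  have hmem : ∀ r ∈ rs, r ∈ maximalIdeal R := fun r hr => hle (Ideal.subset_span hr)
  obtain ⟨l, hl, hlm, hlen⟩ := exists_weaklyRegular_of_isRegularLocalRing R
  have hm : maximalIdeal R • (⊤ : Submodule R R) ≠ ⊤ := by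
    rw [smul_eq_mul, Ideal.mul_top]; exact (maximalIdeal.isMaximal R).ne_top
  let e : (R ⧸ (⊥ : Ideal R)) ≃ₗ[R] R := Submodule.quotEquivOfEqBot ⊥ rfl
  have hm' : maximalIdeal R • (⊤ : Submodule R (R ⧸ (⊥ : Ideal R))) ≠ ⊤ := fun h => hm (by
    have := congrArg (Submodule.map e.toLinearMap) h
    rwa [Submodule.map_smul'', Submodule.map_top, LinearEquiv.range] at this)
  have hw := isWeaklyRegular_of_dim rs hmem ⊥ l.length bot_le
    ((GrothLib.Depth.le_idealDepth_iff_exists _ hm' _).2 ⟨l, rfl, hlm, (e.isWeaklyRegular_congr l).2 hl⟩)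
    (fun m hm2 => by
      rw [bot_sup_eq] at hm2
      have := hm2.trans hdim
      rw [← hlen] at this
      exact_mod_cast this)
  exact ⟨(e.isWeaklyRegular_congr rs).1 hw, fun h => hne (by
    rw [smul_eq_mul, Ideal.mul_top] at h
    exact h.symm)⟩

end GrothLib.CMFree

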